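import Cfsg.Agent.Lib.Recog.SporBound.Sound

set_option autoImplicit false
set_option maxRecDepth 20000

/-! Generated certificate data, piece 0: Fi23 tower, cosets of a parabolic in the next <bcdef>. -/

namespace CfsgLib.Recog.SporBound.TriF4
open CfsgLib.Recog.SporBound

noncomputable def ft0 : Q (ℕ) := (.leaf 0x5000055000050000540000500005300005000052000040000450000400004400004000043000030000350000300003400003000031000020000250000200002200002000021000010000130000100001200001000011000000000040000000000300000000002000000000010000400005100003000042000020000330000100002400000000015)
noncomputable def ct0 : Q (ℕ) := (.leaf 0x50000400003000020000100000)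
noncomputable def st0 : Q (List ℕ) := (.leaf [30, 31, 32, 33, 0x5000000000000003000010000100008, 0x600000000000000300001000010000b, 0x700000000000000300001000010000d, 0x100009000010000000003000020000100007, 0x10000a00001000000000300002000010000a, 0x100000000080000000001000000000500002000000000e, 0x20000c000020000000003000030000100006, 0x2000010000b0000100002000000000500003000000000c, 0x20000e00002000000000300003000000000d, 0x3000020000d00002000030000000005000040000000009, 0x30001000003000000000300004000000000a, 0x30001100003000000000300004000000000b, 0x4000030000f00003000040000000005000050000000005, 0x400012000040000000003000050000000006, 0x400013000040000000003000050000000007, 0x400014000040000000003000050000000008])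
noncomputable def et0 : Q (List ℕ) := (.leaf [0x50000100000, 0x60000100000, 0x70000100000, 0x80000100000, 0x100001, 0x90000100001, 0xa0000100001, 0xb0000100001, 0x10000100002, 0x100000, 0xc0000100002, 0xd0000100002, 0x20000100003, 0x10000100001, 0xe0000100002, 0xf0000100003, 0x30000100004, 0x20000100002, 0x100000100003, 0x110000100003, 0x40000100005, 0x30000100003, 0x120000100004, 0x130000100004, 0x140000100004, 0x40000100004, 0x150000100005, 0x160000100005, 0x170000100005, 0x180000100005])

end CfsgLib.Recog.SporBound.TriF4
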